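import Groth.Agent.LinTop.K855.Sums
import Mathlib.Topology.Algebra.UniformMulAction
import Mathlib.RingTheory.Ideal.Operations
import Mathlib.RingTheory.Finiteness.Basic
import Mathlib.RingTheory.Finiteness.Ideal
import Mathlib.Topology.Algebra.InfiniteSum.Module

/-! The completion of a module with an open adic submodule. -/

set_option autoImplicit false
universe u v

open UniformSpace Topology Filter

namespace K855.Compl

variable {R : Type u} [CommRing R] {M : Type v} [AddCommGroup M] [Module R M] [UniformSpace M]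
  [IsUniformAddGroup M] [UniformContinuousConstSMul R M]

theorem smul_mem_hat (r : R) (V W : AddSubgroup M) (h : ∀ m ∈ V, r • m ∈ W) (x : Completion M)
    (hx : x ∈ hat V) : r • x ∈ hat W := by
  have h1 : (hat V : Set (Completion M)) ⊆ (fun y : Completion M => r • y) ⁻¹' (hat W : Set (Completion M)) := by
    rw [coe_hat]
    apply closure_minimal
    · rintro _ ⟨m, hm, rfl⟩
      rw [Set.mem_preimage, ← Completion.coe_smul]
      exact coe_mem_hat (h m hm)
    · exact (isClosed_hat W).preimage (continuous_const_smul r)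
  exact h1 hx

/-- closure of (the image of) a submodule in the completion -/
noncomputable def hatMod (V : Submodule R M) : Submodule R (Completion M) where
  carrier := hat V.toAddSubgroup
  add_mem' := fun h1 h2 => add_mem h1 h2
  zero_mem' := zero_mem (hat V.toAddSubgroup)
  smul_mem' := fun r x hx => smul_mem_hat r V.toAddSubgroup V.toAddSubgroup (fun _ hm => V.smul_mem r hm) x hx

theorem mem_hatMod (V : Submodule R M) (x : Completion M) : x ∈ hatMod V ↔ x ∈ hat V.toAddSubgroup := Iff.rfl

theorem coe_hatMod (V : Submodule R M) : (hatMod V : Set (Completion M)) = hat V.toAddSubgroup := rfl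

theorem smul_hatMod_le (J : Ideal R) (V : Submodule R M) : J • hatMod V ≤ hatMod (J • V) := by
  rw [Submodule.smul_le]
  intro r hr x hx
  exact smul_mem_hat r _ _ (fun m hm => Submodule.smul_mem_smul hr hm) x hx

omit [UniformSpace M] [IsUniformAddGroup M] [UniformContinuousConstSMul R M] in
/-- an element of `J • V` as a combination of generators of `J` -/
theorem exists_sum_of_mem_smul {ι : Type*} [Fintype ι] (f : ι → R) (V : Submodule R M) (m : M)
    (hm : m ∈ Ideal.span (Set.range f) • V) : ∃ c : ι → M, (∀ i, c i ∈ V) ∧ m = ∑ i, f i • c i := by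
  induction hm using Submodule.smul_induction_on' with
  | smul r hr n hn =>
    obtain ⟨a, rfl⟩ := (Ideal.mem_span_range_iff_exists_fun).1 hr
    refine ⟨fun i => a i • n, fun i => V.smul_mem _ hn, ?_⟩
    rw [Finset.sum_smul]
    refine Finset.sum_congr rfl fun i _ => ?_
    rw [smul_smul, mul_comm]
  | add x hx y hy h1 h2 =>
    obtain ⟨c, hc, rfl⟩ := h1
    obtain ⟨d, hd, rfl⟩ := h2
    refine ⟨fun i => c i + d i, fun i => V.add_mem (hc i) (hd i), ?_⟩
    rw [← Finset.sum_add_distrib]
    exact Finset.sum_congr rfl fun i _ => (smul_add _ _ _).symm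

variable (I : Ideal R) (hI : I.FG) (M' : Submodule R M)
    (hopen : ∀ n : ℕ, IsOpen ((I ^ n • M' : Submodule R M) : Set M))
    (hbasis : ∀ U ∈ nhds (0 : M), ∃ n : ℕ, ((I ^ n • M' : Submodule R M) : Set M) ⊆ U)

omit [UniformSpace M] [IsUniformAddGroup M] [UniformContinuousConstSMul R M] in
theorem pow_smul_le {m n : ℕ} (h : m ≤ n) : (I ^ n • M' : Submodule R M) ≤ I ^ m • M' :=
  Submodule.smul_mono_left (Ideal.pow_le_pow_right h)

include hI hopen hbasis in
theorem hatMod_pow_smul (n : ℕ) : hatMod (I ^ n • M') = I ^ n • hatMod M' := by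
  apply le_antisymm _ (smul_hatMod_le _ _)
  intro y hy
  obtain ⟨s, hs⟩ := (hI.pow (n := n))
  have hs' : I ^ n = Ideal.span (Set.range (fun i : s => (i : R))) := by
    rw [← hs]; congr 1; simp
  obtain ⟨b, hb1, hb2⟩ := exists_series (fun k => (I ^ (n + k) • M' : Submodule R M).toAddSubgroup)
    (fun k => hopen (n + k)) (fun k l h => pow_smul_le I M' (by omega))
    (fun W hW => by
      obtain ⟨k, hk⟩ := hbasis W hW
      exact ⟨k, subset_trans (pow_smul_le I M' (by omega : k ≤ n + k)) hk⟩) y hy
  have hb3 : ∀ k, ∃ c : s → M, (∀ i, c i ∈ I ^ k • M') ∧ b k = ∑ i : s, (i : R) • c i := by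
    intro k
    apply exists_sum_of_mem_smul (fun i : s => (i : R))
    rw [← hs', ← mul_smul, ← pow_add]
    exact hb1 k
  choose c hc hbc using hb3
  have hz : ∀ i : s, ∃ x ∈ hat (I ^ 0 • M' : Submodule R M).toAddSubgroup, HasSum (fun k => (c k i : Completion M)) x :=
    fun i => exists_hasSum_mem (fun k => (I ^ k • M' : Submodule R M).toAddSubgroup) hopen
      (fun k l h => pow_smul_le I M' h) hbasis (fun k => c k i) (fun k => hc k i)
  choose z hz hsum using hz
  have h1 : HasSum (fun k => (b k : Completion M)) (∑ i : s, (i : R) • z i) := by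
    have h2 : (fun k => (b k : Completion M)) = fun k => ∑ i : s, (i : R) • (c k i : Completion M) := by
      funext k
      rw [hbc]
      have : ((∑ i : s, (i : R) • c k i : M) : Completion M) = Completion.toCompl (∑ i : s, (i : R) • c k i) := rfl
      rw [this, map_sum]
      refine Finset.sum_congr rfl fun i _ => ?_
      exact Completion.coe_smul _ _
    rw [h2]
    exact hasSum_sum fun i _ => (hsum i).const_smul (i : R)
  have h3 : y = ∑ i : s, (i : R) • z i := hb2.unique h1
  rw [h3]
  refine Submodule.sum_mem _ fun i _ => ?_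
  refine Submodule.smul_mem_smul ?_ ?_
  · rw [← hs]; exact Ideal.subset_span i.2
  · have := hz i
    rw [pow_zero, Ideal.one_eq_top, Submodule.top_smul] at this
    exact this

/-- The canonical linear map to the completion. -/
noncomputable def toC : M →ₗ[R] Completion M where
  toFun := fun m => (m : Completion M)
  map_add' := Completion.coe_add
  map_smul' := fun r m => Completion.coe_smul r m

theorem toC_apply (m : M) : toC (R := R) m = (m : Completion M) := rfl

include hopen in
theorem top_eq : (⊤ : Submodule R (Completion M)) = LinearMap.range (toC (R := R) (M := M)) ⊔ hatMod M' := by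
  rw [eq_comm, eq_top_iff]
  intro x _
  have h0 : IsOpen (M' : Set M) := by
    have := hopen 0
    rwa [pow_zero, Ideal.one_eq_top, Submodule.top_smul] at this
  obtain ⟨m, hm⟩ := exists_sub_mem_hat' M'.toAddSubgroup h0 x
  rw [Submodule.mem_sup]
  exact ⟨_, ⟨m, rfl⟩, _, hm, by rw [toC_apply]; abel⟩

include hopen hbasis hI in
theorem pow_smul_top (n : ℕ) : (I ^ n • ⊤ : Submodule R (Completion M)) =
    Submodule.map (toC (R := R) (M := M)) (I ^ n • ⊤) ⊔ hatMod (I ^ n • M') := by
  rw [top_eq I M' hopen, Submodule.smul_sup, hatMod_pow_smul I hI M' hopen hbasis, Submodule.map_smul'',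
    Submodule.map_top]

include hopen hbasis hI in
theorem coe_mem_pow_smul_top (n : ℕ) (m : M) :
    (m : Completion M) ∈ (I ^ n • ⊤ : Submodule R (Completion M)) ↔ m ∈ (I ^ n • ⊤ : Submodule R M) := by
  rw [pow_smul_top I hI M' hopen hbasis, Submodule.mem_sup]
  constructor
  · rintro ⟨_, ⟨a, ha, rfl⟩, y, hy, h⟩
    have h1 : ((m - a : M) : Completion M) ∈ hat (I ^ n • M' : Submodule R M).toAddSubgroup := by
      rw [Completion.coe_sub, ← h, toC_apply, add_sub_cancel_left]
      exact hy
    rw [mem_hat_coe _ (hopen n)] at h1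
    have h2 : m - a ∈ (I ^ n • ⊤ : Submodule R M) := Submodule.smul_mono le_rfl le_top h1
    have := Submodule.add_mem _ h2 ha
    rwa [sub_add_cancel] at this
  · intro h
    exact ⟨_, ⟨m, h, rfl⟩, 0, zero_mem _, add_zero _⟩

include hopen hbasis hI in
theorem exists_sub_mem (n : ℕ) (x : Completion M) :
    ∃ m : M, x - (m : Completion M) ∈ (I ^ n • ⊤ : Submodule R (Completion M)) := by
  obtain ⟨m, hm⟩ := exists_sub_mem_hat' (I ^ n • M' : Submodule R M).toAddSubgroup (hopen n) x
  refine ⟨m, ?_⟩
  rw [pow_smul_top I hI M' hopen hbasis]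
  exact Submodule.mem_sup_right hm

end K855.Compl
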