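import Groth.Prelude.Def_W4stk3formalspacesTaut
import Mathlib.Topology.Algebra.InfiniteSum.Nonarchimedean
import Mathlib.Topology.Algebra.InfiniteSum.NatInt
import Mathlib.Topology.Algebra.InfiniteSum.Constructions
import Mathlib.Topology.Algebra.InfiniteSum.Ring
import Mathlib.RingTheory.Finiteness.Ideal
import Mathlib.RingTheory.Ideal.Maps
import Mathlib.Topology.Algebra.Ring.Ideal

/-! Closures of powers of an ideal in a complete linearly topologized ring. -/

set_option autoImplicit false
universe u v

open Topology Filter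

namespace K855.Closure

section Top

variable {A : Type u} [CommRing A] [TopologicalSpace A] [IsTopologicalRing A]

theorem mem_closure_ideal {I : Ideal A} {x : A} : x ∈ I.closure ↔ x ∈ closure (I : Set A) := Iff.rfl

theorem le_closure (I : Ideal A) : I ≤ I.closure := fun _ h => subset_closure h

theorem closure_le {I J : Ideal A} (h : I ≤ J) (hJ : IsClosed (J : Set A)) : I.closure ≤ J :=
  closure_minimal h hJ

theorem closure_mono {I J : Ideal A} (h : I ≤ J) : I.closure ≤ J.closure :=
  _root_.closure_mono h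

theorem isClosed_closure_ideal (I : Ideal A) : IsClosed (I.closure : Set A) := _root_.isClosed_closure

theorem isClosed_of_isOpen {I : Ideal A} (h : IsOpen (I : Set A)) : IsClosed (I : Set A) :=
  (Submodule.toAddSubgroup I).isClosed_of_isOpen h

/-- An element of the closure of `I` is in `I` modulo an open ideal. -/
theorem closure_le_sup {I J : Ideal A} (hJ : IsOpen (J : Set A)) : I.closure ≤ I ⊔ J := by
  intro x hx
  have h1 : x ∈ closure (I : Set A) := hx
  have h2 : {y : A | x - y ∈ J} ∈ 𝓝 x := by
    have hc : Continuous fun y : A => x - y := continuous_const.sub continuous_id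
    apply hc.continuousAt.preimage_mem_nhds
    apply hJ.mem_nhds
    rw [sub_self]
    exact zero_mem _
  obtain ⟨y, h3, hy⟩ := mem_closure_iff_nhds.1 h1 _ h2
  have : x = y + (x - y) := by ring
  rw [this]
  exact Submodule.add_mem_sup hy h3

theorem mul_closure_le (I J : Ideal A) : I.closure * J.closure ≤ (I * J).closure := by
  have h1 : ∀ x ∈ I, ∀ y ∈ J.closure, x * y ∈ (I * J).closure := by
    intro x hx y hy
    have h2 : (J.closure : Set A) ⊆ (fun y => x * y) ⁻¹' ((I * J).closure : Set A) := by
      apply closure_minimal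
      · intro y hy
        exact subset_closure (Ideal.mul_mem_mul hx hy)
      · exact (isClosed_closure_ideal _).preimage (continuous_const.mul continuous_id)
    exact h2 hy
  rw [Ideal.mul_le]
  intro x hx y hy
  have h2 : (I.closure : Set A) ⊆ (fun x => x * y) ⁻¹' ((I * J).closure : Set A) := by
    apply closure_minimal
    · intro x hx
      exact h1 x hx y hy
    · exact (isClosed_closure_ideal _).preimage (continuous_id.mul continuous_const)
  exact h2 hx

theorem closure_pow_le (I : Ideal A) (n : ℕ) : I.closure ^ n ≤ (I ^ n).closure := by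
  induction n with
  | zero =>
    rw [pow_zero, pow_zero]
    exact le_closure _
  | succ n ih =>
    rw [pow_succ, pow_succ]
    exact (Ideal.mul_mono_left ih).trans (mul_closure_le _ _)

/-- If `I ≤ J + closure (I^2)` then `closure (J^n) = closure (I^n)` for `n ≥ 1`
when the closures of the powers of `I` form a basis. -/
theorem pow_le_sup (I J : Ideal A) (hJI : J ≤ I) (h : I ≤ J ⊔ (I ^ 2).closure) (n : ℕ) (hn : 0 < n) :
    I ^ n ≤ J ^ n ⊔ (I ^ (n + 1)).closure := by
  induction n, hn using Nat.le_induction with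
  | base => simpa using h
  | succ n hn ih =>
    rw [pow_succ I n]
    refine (Ideal.mul_mono ih h).trans ?_
    rw [Ideal.sup_mul, Ideal.mul_sup, Ideal.mul_sup]
    refine sup_le (sup_le ?_ ?_) (sup_le ?_ ?_)
    · rw [← pow_succ]; exact le_sup_left
    · refine le_sup_of_le_right ?_
      refine ((Ideal.mul_mono_left ((Ideal.pow_right_mono hJI n).trans (le_closure _))).trans
        (mul_closure_le _ _)).trans ?_
      rw [← pow_add]
    · refine le_sup_of_le_right ?_
      refine ((Ideal.mul_mono_right (hJI.trans (le_closure _))).trans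
        (mul_closure_le _ _)).trans ?_
      rw [← pow_succ]
    · refine le_sup_of_le_right ?_
      refine (mul_closure_le _ _).trans ?_
      rw [← pow_add]
      exact closure_mono (Ideal.pow_le_pow_right (by omega))

theorem pow_le_sup' (I J : Ideal A) (hJI : J ≤ I) (h : I ≤ J ⊔ (I ^ 2).closure)
    (hopen : ∀ n : ℕ, IsOpen ((I ^ n).closure : Set A)) (n : ℕ) (hn : 0 < n) (m : ℕ) :
    I ^ n ≤ J ^ n ⊔ (I ^ (n + m)).closure := by
  induction m with
  | zero => exact (le_closure _).trans le_sup_right
  | succ m ih =>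
    refine ih.trans (sup_le le_sup_left ?_)
    refine (closure_le_sup (hopen (n + m + 1))).trans (sup_le ?_ le_sup_right)
    refine (pow_le_sup I J hJI h (n + m) (by omega)).trans (sup_le ?_ le_sup_right)
    exact (Ideal.pow_le_pow_right (by omega)).trans le_sup_left

theorem closure_pow_eq (I J : Ideal A) (hJI : J ≤ I) (h : I ≤ J ⊔ (I ^ 2).closure)
    (hopen : ∀ n : ℕ, IsOpen ((I ^ n).closure : Set A))
    (hbasis : ∀ U ∈ nhds (0 : A), ∃ n : ℕ, ((I ^ n).closure : Set A) ⊆ U) (n : ℕ) (hn : 0 < n) :
    (J ^ n).closure = (I ^ n).closure := by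
  apply le_antisymm (closure_mono (Ideal.pow_right_mono hJI n))
  apply closure_le _ (isClosed_closure_ideal _)
  intro x hx
  rw [mem_closure_ideal, mem_closure_iff_nhds]
  intro U hU
  have hU' : {z | x - z ∈ U} ∈ 𝓝 (0 : A) := by
    have hc : Continuous fun z : A => x - z := continuous_const.sub continuous_id
    apply hc.continuousAt.preimage_mem_nhds
    rw [sub_zero]
    exact hU
  obtain ⟨m, hm⟩ := hbasis _ hU'
  obtain ⟨y, hy, z, hz, hyz⟩ := Submodule.mem_sup.1 (pow_le_sup' I J hJI h hopen n hn m hx)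
  have h1 : z ∈ (I ^ m).closure := closure_mono (Ideal.pow_le_pow_right (by omega)) hz
  have h2 : x - z ∈ U := hm h1
  refine ⟨x - z, h2, ?_⟩
  have : x - z = y := by rw [← hyz]; ring
  rw [this]
  exact hy

end Top

section Compl

variable {A : Type u} [CommRing A] [UniformSpace A] [IsUniformAddGroup A] [IsTopologicalRing A]
  [T2Space A] [CompleteSpace A]

/-- an element of `J * V` as a combination of generators of `J` -/
theorem exists_sum_of_mem_mul {ι : Type*} [Fintype ι] {B : Type*} [CommRing B] (f : ι → B) (V : Ideal B) (m : B)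
    (hm : m ∈ Ideal.span (Set.range f) * V) : ∃ c : ι → B, (∀ i, c i ∈ V) ∧ m = ∑ i, f i * c i := by
  induction hm using Submodule.mul_induction_on' with
  | mem_mul_mem r hr n hn =>
    obtain ⟨a, rfl⟩ := (Ideal.mem_span_range_iff_exists_fun).1 hr
    refine ⟨fun i => a i * n, fun i => V.mul_mem_left _ hn, ?_⟩
    rw [Finset.sum_mul]
    refine Finset.sum_congr rfl fun i _ => ?_
    ring
  | add x hx y hy h1 h2 =>
    obtain ⟨c, hc, rfl⟩ := h1
    obtain ⟨d, hd, rfl⟩ := h2
    refine ⟨fun i => c i + d i, fun i => V.add_mem (hc i) (hd i), ?_⟩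
    rw [← Finset.sum_add_distrib]
    exact Finset.sum_congr rfl fun i _ => (mul_add _ _ _).symm

variable (I : Ideal A) (hopen : ∀ n : ℕ, IsOpen ((I ^ n).closure : Set A))
    (hbasis : ∀ U ∈ nhds (0 : A), ∃ n : ℕ, ((I ^ n).closure : Set A) ⊆ U)

include hopen hbasis in
omit [T2Space A] [CompleteSpace A] in
theorem nonarch : NonarchimedeanAddGroup A where
  toIsTopologicalAddGroup := inferInstance
  is_nonarchimedean U hU := by
    obtain ⟨n, hn⟩ := hbasis U hU
    exact ⟨⟨Submodule.toAddSubgroup (I ^ n).closure, hopen n⟩, hn⟩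

include hbasis in
omit [IsUniformAddGroup A] [T2Space A] [CompleteSpace A] in
theorem tendsto_zero (x : ℕ → A) (hx : ∀ n, x n ∈ (I ^ n).closure) : Tendsto x atTop (𝓝 0) := by
  rw [tendsto_def]
  intro U hU
  obtain ⟨n, hn⟩ := hbasis U hU
  exact mem_atTop_sets.2 ⟨n, fun m hm => hn (closure_mono (Ideal.pow_le_pow_right hm) (hx m))⟩

include hopen hbasis in
omit [T2Space A] in
theorem summable (x : ℕ → A) (hx : ∀ n, x n ∈ (I ^ n).closure) : Summable x := by
  have := nonarch I hopen hbasis
  apply NonarchimedeanAddGroup.summable_of_tendsto_cofinite_zero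
  rw [Nat.cofinite_eq_atTop]
  exact tendsto_zero I hbasis x hx

include hopen hbasis in
theorem exists_series (n : ℕ) (y : A) (hy : y ∈ (I ^ n).closure) :
    ∃ a : ℕ → A, (∀ k, a k ∈ I ^ (n + k)) ∧ HasSum a y := by
  have step : ∀ (k : ℕ) (z : (I ^ (n + k)).closure), ∃ m : A, m ∈ I ^ (n + k) ∧ (z : A) - m ∈ (I ^ (n + (k + 1))).closure :=
    fun k z => by
      obtain ⟨a, ha, b, hb, hab⟩ := Submodule.mem_sup.1 (closure_le_sup (hopen (n + (k + 1))) z.2)
      exact ⟨a, ha, by rw [← hab]; simpa using hb⟩
  choose c hc hc' using step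
  let r : ∀ k : ℕ, (I ^ (n + k)).closure := fun k =>
    Nat.rec (motive := fun k => (I ^ (n + k)).closure) ⟨y, hy⟩ (fun k z => ⟨(z : A) - c k z, hc' k z⟩) k
  have hr : ∀ k, (r (k + 1) : A) = (r k : A) - c k (r k) := fun k => rfl
  have hr0 : (r 0 : A) = y := rfl
  refine ⟨fun k => c k (r k), fun k => hc k (r k), ?_⟩
  have hs := summable I hopen hbasis (fun k => c k (r k)) fun k =>
    closure_mono (Ideal.pow_le_pow_right (by omega)) (le_closure _ (hc k (r k)))
  rw [hs.hasSum_iff_tendsto_nat]
  have h1 : ∀ k, ∑ i ∈ Finset.range k, c i (r i) = y - (r k : A) := by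
    intro k
    induction k with
    | zero => rw [Finset.sum_range_zero, hr0, sub_self]
    | succ k ih => rw [Finset.sum_range_succ, ih, hr]; ring
  simp only [h1]
  have h2 : Tendsto (fun k => (r k : A)) atTop (𝓝 0) :=
    tendsto_zero I hbasis _ fun k => closure_mono (Ideal.pow_le_pow_right (by omega)) (r k).2
  have h3 := (tendsto_const_nhds (x := y)).sub h2
  rwa [sub_zero] at h3

include hopen hbasis in
/-- In a complete ring with the closures of the powers of a finitely generated `I` as a basis of
neighbourhoods, the powers of `I` are closed. -/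
theorem closure_pow_eq_self (hI : I.FG) (n : ℕ) : (I ^ n).closure = I ^ n := by
  apply le_antisymm _ (le_closure _)
  intro y hy
  obtain ⟨s, hs⟩ := (hI.pow (n := n))
  have hs' : I ^ n = Ideal.span (Set.range (fun i : s => (i : A))) := by
    rw [← hs]; congr 1; simp
  obtain ⟨b, hb1, hb2⟩ := exists_series I hopen hbasis n y hy
  have hb3 : ∀ k, ∃ c : s → A, (∀ i, c i ∈ I ^ k) ∧ b k = ∑ i : s, (i : A) * c i := by
    intro k
    apply exists_sum_of_mem_mul (fun i : s => (i : A))
    rw [← hs', ← pow_add]
    exact hb1 k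
  choose c hc hbc using hb3
  have hsum : ∀ i : s, Summable fun k => c k i := fun i =>
    summable I hopen hbasis (fun k => c k i) fun k => le_closure _ (hc k i)
  have h1 : HasSum b (∑ i : s, (i : A) * ∑' k, c k i) := by
    have h2 : b = fun k => ∑ i : s, (i : A) * c k i := funext hbc
    rw [h2]
    exact hasSum_sum fun i _ => (hsum i).hasSum.mul_left (i : A)
  rw [hb2.unique h1, ← hs]
  refine Submodule.sum_mem _ fun i _ => ?_
  exact Ideal.mul_mem_right _ _ (Ideal.subset_span i.2)

include hopen hbasis in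
theorem isAdic_of_fg (hI : I.FG) : IsAdic I := by
  rw [isAdic_iff]
  constructor
  · intro n
    rw [← closure_pow_eq_self I hopen hbasis hI n]
    exact hopen n
  · intro U hU
    obtain ⟨n, hn⟩ := hbasis U hU
    exact ⟨n, subset_trans (le_closure _) hn⟩

include hopen hbasis in
theorem isAdic_of_le (J : Ideal A) (hJ : J.FG) (hJI : J ≤ I) (h : I ≤ J ⊔ (I ^ 2).closure) : IsAdic J := by
  have h1 := closure_pow_eq I J hJI h hopen hbasis
  apply isAdic_of_fg J _ _ hJ
  · intro n
    rcases Nat.eq_zero_or_pos n with rfl | hn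
    · rw [pow_zero, ← pow_zero I]
      exact hopen 0
    · rw [h1 n hn]
      exact hopen n
  · intro U hU
    obtain ⟨n, hn⟩ := hbasis U hU
    refine ⟨n + 1, subset_trans ?_ hn⟩
    rw [h1 (n + 1) (by omega)]
    exact closure_mono (Ideal.pow_le_pow_right (by omega))

end Compl

/-- Lift finitely many generators of `I.map (mk K)` to elements of `I`. -/
theorem exists_fg_le {B : Type*} [CommRing B] (I K : Ideal B) (h : (I.map (Ideal.Quotient.mk K)).FG) :
    ∃ J : Ideal B, J.FG ∧ J ≤ I ∧ I ≤ J ⊔ K := by
  classical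
  obtain ⟨s, hs⟩ := h
  have h1 : ∀ b ∈ s, ∃ x ∈ I, Ideal.Quotient.mk K x = b := by
    intro b hb
    have h2 : b ∈ I.map (Ideal.Quotient.mk K) := by
      rw [← hs]; exact Ideal.subset_span hb
    exact (Ideal.mem_map_iff_of_surjective _ Ideal.Quotient.mk_surjective).1 h2
  choose! g hg hgb using h1
  refine ⟨Ideal.span (g '' s), ⟨s.image g, by rw [Finset.coe_image]⟩, ?_, ?_⟩
  · rw [Ideal.span_le]
    rintro _ ⟨b, hb, rfl⟩
    exact hg b hb
  · have h2 : I.map (Ideal.Quotient.mk K) ≤ (Ideal.span (g '' s)).map (Ideal.Quotient.mk K) := by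
      rw [← hs]
      refine Ideal.span_le.2 fun b hb => ?_
      have := Ideal.mem_map_of_mem (Ideal.Quotient.mk K) (Ideal.subset_span (Set.mem_image_of_mem g hb))
      rwa [hgb b hb] at this
    have h3 := Ideal.map_le_iff_le_comap.1 h2
    rw [Ideal.comap_map_of_surjective _ Ideal.Quotient.mk_surjective, ← RingHom.ker_eq_comap_bot,
      Ideal.mk_ker] at h3
    exact h3

/-- A weakly pre-adic ring and an ideal of definition. -/
theorem basis_of_idealOfDefinition {A : Type u} [CommRing A] [TopologicalSpace A] [IsTopologicalRing A]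
    (hA : LinTop.IsWeaklyPreadic A) (I : Ideal A) (hI : LinTop.IsIdealOfDefinition A I) :
    (∀ n : ℕ, IsOpen ((I ^ n).closure : Set A)) ∧
      ∀ U ∈ nhds (0 : A), ∃ n : ℕ, ((I ^ n).closure : Set A) ⊆ U := by
  obtain ⟨-, I₀, h1, h2⟩ := hA
  constructor
  · intro n
    obtain ⟨m, hm⟩ := h2 _ (hI.1.mem_nhds (zero_mem _))
    have h3 : I₀ ^ (m * n) ≤ I ^ n := by
      rw [pow_mul]
      exact Ideal.pow_right_mono (fun x hx => hm (le_closure _ hx)) n
    exact Submodule.toAddSubgroup (I ^ n).closure |>.isOpen_of_mem_nhds (g := 0)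
      (Filter.mem_of_superset ((h1 (m * n)).mem_nhds (zero_mem (I₀ ^ (m * n)).closure)) (closure_mono h3))
  · intro U hU
    obtain ⟨U', hU', hcl, hsub⟩ := exists_mem_nhds_isClosed_subset hU
    obtain ⟨n, _, hn⟩ := hI.2 _ hU'
    exact ⟨n, subset_trans (closure_minimal hn hcl) hsub⟩

theorem isIdealOfDefinition_of_isAdic {A : Type u} [CommRing A] [TopologicalSpace A] [IsTopologicalRing A]
    {J : Ideal A} (hJ : IsAdic J) : LinTop.IsIdealOfDefinition A J := by
  rw [isAdic_iff] at hJ
  constructor
  · have := hJ.1 1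
    rwa [pow_one] at this
  · intro U hU
    obtain ⟨n, hn⟩ := hJ.2 U hU
    exact ⟨n + 1, Nat.succ_pos _, fun x hx => hn (Ideal.pow_le_pow_right (Nat.le_succ n) hx)⟩

end K855.Closure
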