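import Mathlib.Topology.Algebra.GroupCompletion
import Mathlib.Topology.Algebra.OpenSubgroup
import Mathlib.Topology.Algebra.IsUniformGroup.Basic
import Mathlib.Topology.Algebra.InfiniteSum.Nonarchimedean

/-! Closures of open subgroups in the completion of an additive uniform group. -/

set_option autoImplicit false
universe u v

open UniformSpace Topology

namespace K855.Compl

variable {M : Type u} [AddCommGroup M] [UniformSpace M] [IsUniformAddGroup M]

/-- closure of (the image of) a subgroup in the completion -/
noncomputable def hat (V : AddSubgroup M) : AddSubgroup (Completion M) :=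
  (V.map (Completion.toCompl : M →+ Completion M)).topologicalClosure

theorem coe_hat (V : AddSubgroup M) :
    (hat V : Set (Completion M)) = closure ((fun m : M => (m : Completion M)) '' (V : Set M)) := rfl

theorem isClosed_hat (V : AddSubgroup M) : IsClosed (hat V : Set (Completion M)) := isClosed_closure

theorem coe_mem_hat {V : AddSubgroup M} {m : M} (h : m ∈ V) : (m : Completion M) ∈ hat V :=
  subset_closure ⟨m, h, rfl⟩

theorem hat_mono {V W : AddSubgroup M} (h : V ≤ W) : hat V ≤ hat W :=
  closure_mono (Set.image_mono h)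

theorem isOpen_hat (V : AddSubgroup M) (hV : IsOpen (V : Set M)) : IsOpen (hat V : Set (Completion M)) := by
  apply AddSubgroup.isOpen_of_mem_nhds _ (g := 0)
  have h := Completion.isDenseInducing_toCompl M |>.closure_image_mem_nhds (hV.mem_nhds V.zero_mem)
  rw [map_zero] at h
  exact h

theorem mem_hat_coe (V : AddSubgroup M) (hV : IsOpen (V : Set M)) (m : M) :
    (m : Completion M) ∈ hat V ↔ m ∈ V := by
  constructor
  · intro h
    have hi := (Completion.isDenseInducing_toCompl M).isInducing
    have h1 : m ∈ closure (V : Set M) := by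
      rw [hi.closure_eq_preimage_closure_image]
      exact h
    rwa [(V.isClosed_of_isOpen hV).closure_eq] at h1
  · exact coe_mem_hat

theorem exists_hat_subset {P : AddSubgroup M → Prop}
    (hb : ∀ W ∈ 𝓝 (0 : M), ∃ V : AddSubgroup M, P V ∧ (V : Set M) ⊆ W)
    (U : Set (Completion M)) (hU : U ∈ 𝓝 (0 : Completion M)) :
    ∃ V : AddSubgroup M, P V ∧ (hat V : Set (Completion M)) ⊆ U := by
  obtain ⟨U', hU', hcl, hsub⟩ := exists_mem_nhds_isClosed_subset hU
  have h1 : (fun m : M => (m : Completion M)) ⁻¹' U' ∈ 𝓝 (0 : M) := by
    apply (Completion.continuous_toCompl (α := M)).continuousAt.preimage_mem_nhds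
    rw [map_zero]
    exact hU'
  obtain ⟨V, hP, hV⟩ := hb _ h1
  refine ⟨V, hP, subset_trans ?_ hsub⟩
  rw [coe_hat]
  exact closure_minimal (Set.image_subset_iff.2 hV) hcl

/-- approximate an element of `hat W` by an element of `W` modulo an open `hat V`. -/
theorem exists_sub_mem_hat (W V : AddSubgroup M) (hV : IsOpen (V : Set M)) (x : Completion M) (hx : x ∈ hat W) :
    ∃ m ∈ W, x - (m : Completion M) ∈ hat V := by
  have h1 : x ∈ closure ((fun m : M => (m : Completion M)) '' (W : Set M)) := hx
  have h2 : {y : Completion M | x - y ∈ hat V} ∈ 𝓝 x := by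
    have hc : Continuous fun y : Completion M => x - y := continuous_const.sub continuous_id
    apply hc.continuousAt.preimage_mem_nhds
    apply (isOpen_hat V hV).mem_nhds
    rw [sub_self]
    exact zero_mem _
  obtain ⟨_, h3, m, hm, rfl⟩ := mem_closure_iff_nhds.1 h1 _ h2
  exact ⟨m, hm, h3⟩

theorem hat_top : hat (⊤ : AddSubgroup M) = ⊤ := by
  rw [eq_top_iff]
  intro x _
  have : x ∈ closure (Set.range (fun m : M => (m : Completion M))) := Completion.denseRange_coe x
  rw [← SetLike.mem_coe, coe_hat]
  simpa using this

theorem exists_sub_mem_hat' (V : AddSubgroup M) (hV : IsOpen (V : Set M)) (x : Completion M) :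
    ∃ m : M, x - (m : Completion M) ∈ hat V := by
  obtain ⟨m, _, hm⟩ := exists_sub_mem_hat ⊤ V hV x (by rw [hat_top]; trivial)
  exact ⟨m, hm⟩

end K855.Compl
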