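import Groth.Agent.LinTop.K855.Compl
import Mathlib.Topology.Algebra.InfiniteSum.Nonarchimedean
import Mathlib.Topology.Algebra.InfiniteSum.NatInt
import Mathlib.Topology.Algebra.InfiniteSum.Constructions

/-! Convergent sums in the completion of a linearly topologized group. -/

set_option autoImplicit false
universe u v

open UniformSpace Topology Filter

namespace K855.Compl

variable {M : Type u} [AddCommGroup M] [UniformSpace M] [IsUniformAddGroup M]

theorem nonarch (hb : ∀ W ∈ 𝓝 (0 : M), ∃ V : AddSubgroup M, IsOpen (V : Set M) ∧ (V : Set M) ⊆ W) :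
    NonarchimedeanAddGroup (Completion M) where
  toIsTopologicalAddGroup := inferInstance
  is_nonarchimedean U hU := by
    obtain ⟨V, hV, hsub⟩ := exists_hat_subset hb U hU
    exact ⟨⟨hat V, isOpen_hat V hV⟩, hsub⟩

section Seq

variable (V : ℕ → AddSubgroup M) (hV : ∀ n, IsOpen (V n : Set M)) (hanti : Antitone V)
  (hb : ∀ W ∈ 𝓝 (0 : M), ∃ n, (V n : Set M) ⊆ W)

include hV hb in
theorem exists_hat_subset_seq (U : Set (Completion M)) (hU : U ∈ 𝓝 (0 : Completion M)) :
    ∃ n, (hat (V n) : Set (Completion M)) ⊆ U := by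
  obtain ⟨W, ⟨n, rfl⟩, h⟩ := exists_hat_subset (P := fun W => ∃ n, V n = W)
    (fun W hW => by obtain ⟨n, hn⟩ := hb W hW; exact ⟨V n, ⟨n, rfl⟩, hn⟩) U hU
  exact ⟨n, h⟩

include hV hb in
theorem nonarch_seq : NonarchimedeanAddGroup (Completion M) :=
  nonarch fun W hW => by obtain ⟨n, hn⟩ := hb W hW; exact ⟨V n, hV n, hn⟩

include hV hanti hb in
theorem tendsto_zero_of_mem (x : ℕ → Completion M) (hx : ∀ n, x n ∈ hat (V n)) :
    Tendsto x atTop (𝓝 0) := by
  rw [tendsto_def]
  intro U hU
  obtain ⟨n, hn⟩ := exists_hat_subset_seq V hV hb U hU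
  exact mem_atTop_sets.2 ⟨n, fun m hm => hn (hat_mono (hanti hm) (hx m))⟩

include hV hanti hb in
theorem summable_of_mem (a : ℕ → M) (ha : ∀ n, a n ∈ V n) : Summable fun n => (a n : Completion M) := by
  have := nonarch_seq V hV hb
  apply NonarchimedeanAddGroup.summable_of_tendsto_cofinite_zero
  rw [Nat.cofinite_eq_atTop]
  exact tendsto_zero_of_mem V hV hanti hb _ fun n => coe_mem_hat (ha n)

include hV hanti hb in
theorem exists_hasSum_mem (a : ℕ → M) (ha : ∀ n, a n ∈ V n) :
    ∃ x ∈ hat (V 0), HasSum (fun n => (a n : Completion M)) x := by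
  have hs := summable_of_mem V hV hanti hb a ha
  refine ⟨_, ?_, hs.hasSum⟩
  have h1 := hs.hasSum.tendsto_sum_nat
  apply (isClosed_hat (V 0)).mem_of_tendsto h1
  exact Eventually.of_forall fun n => sum_mem fun i _ => hat_mono (hanti (Nat.zero_le i)) (coe_mem_hat (ha i))

include hV hanti hb in
/-- Every element of `hat (V 0)` is the sum of a series with `n`-th term in `V n`. -/
theorem exists_series (y : Completion M) (hy : y ∈ hat (V 0)) :
    ∃ a : ℕ → M, (∀ n, a n ∈ V n) ∧ HasSum (fun n => (a n : Completion M)) y := by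
  classical
  have step : ∀ (n : ℕ) (z : hat (V n)), ∃ m : M, m ∈ V n ∧ (z : Completion M) - (m : Completion M) ∈ hat (V (n + 1)) :=
    fun n z => by
      obtain ⟨m, hm, h⟩ := exists_sub_mem_hat (V n) (V (n + 1)) (hV (n + 1)) z z.2
      exact ⟨m, hm, h⟩
  choose c hc hc' using step
  let r : ∀ n : ℕ, hat (V n) := fun n => Nat.rec (motive := fun n => hat (V n)) ⟨y, hy⟩
    (fun n z => ⟨(z : Completion M) - (c n z : Completion M), hc' n z⟩) n
  have hr : ∀ n, (r (n + 1) : Completion M) = (r n : Completion M) - (c n (r n) : Completion M) := fun n => rfl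
  have hr0 : (r 0 : Completion M) = y := rfl
  refine ⟨fun n => c n (r n), fun n => hc n (r n), ?_⟩
  have hs := summable_of_mem V hV hanti hb (fun n => c n (r n)) fun n => hc n (r n)
  rw [hs.hasSum_iff_tendsto_nat]
  have h1 : ∀ n, ∑ i ∈ Finset.range n, ((c i (r i) : M) : Completion M) = y - (r n : Completion M) := by
    intro n
    induction n with
    | zero => rw [Finset.sum_range_zero, hr0, sub_self]
    | succ n ih => rw [Finset.sum_range_succ, ih, hr]; abel
  simp only [h1]
  have h2 : Tendsto (fun n => (r n : Completion M)) atTop (𝓝 0) :=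
    tendsto_zero_of_mem V hV hanti hb _ fun n => (r n).2
  have h3 := (tendsto_const_nhds (x := y)).sub h2
  rwa [sub_zero] at h3

end Seq

section Map

variable {Q : Type v} [AddCommGroup Q] [UniformSpace Q] [IsUniformAddGroup Q] (p : M →+ Q)
  (hp : Continuous p)

theorem coe_completion : (p.completion hp : Completion M → Completion Q) = Completion.map p := rfl

theorem completion_mem_hat (V : AddSubgroup M) (x : Completion M) (hx : x ∈ hat V) :
    p.completion hp x ∈ hat (V.map p) := by
  have h1 : x ∈ closure ((fun m : M => (m : Completion M)) '' (V : Set M)) := hx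
  have h2 : Continuous (p.completion hp) := p.continuous_completion hp
  have h3 := image_closure_subset_closure_image h2 ⟨x, h1, rfl⟩
  refine closure_mono ?_ h3
  rintro _ ⟨_, ⟨m, hm, rfl⟩, rfl⟩
  exact ⟨p m, ⟨m, hm, rfl⟩, (p.completion_coe hp m).symm⟩

/-- The kernel of the completed map is the closure of the kernel. -/
theorem ker_completion (hopen : IsOpenMap p)
    (hb : ∀ W ∈ 𝓝 (0 : M), ∃ V : AddSubgroup M, IsOpen (V : Set M) ∧ (V : Set M) ⊆ W) (x : Completion M) :
    p.completion hp x = 0 ↔ x ∈ hat p.ker := by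
  constructor
  · intro hx
    rw [← SetLike.mem_coe, coe_hat, mem_closure_iff_nhds]
    intro U hU
    have hU' : {z | x - z ∈ U} ∈ 𝓝 (0 : Completion M) := by
      have hc : Continuous fun z : Completion M => x - z := continuous_const.sub continuous_id
      apply hc.continuousAt.preimage_mem_nhds
      rw [sub_zero]
      exact hU
    obtain ⟨V, hV, hsub⟩ := exists_hat_subset hb _ hU'
    obtain ⟨m, hm⟩ := exists_sub_mem_hat' V hV x
    have h1 := completion_mem_hat p hp V _ hm
    rw [map_sub, hx, zero_sub, p.completion_coe hp] at h1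
    have h2 : ((p m : Q) : Completion Q) ∈ hat (V.map p) := by
      have := neg_mem h1
      rwa [neg_neg] at this
    have hVo : IsOpen ((V.map p : AddSubgroup Q) : Set Q) := hopen _ hV
    rw [mem_hat_coe _ hVo] at h2
    obtain ⟨v, hv, hpv⟩ := h2
    refine ⟨((m - v : M) : Completion M), ?_, m - v, ?_, rfl⟩
    · have h3 : x - ((m - v : M) : Completion M) ∈ hat V := by
        have : x - ((m - v : M) : Completion M) = (x - (m : Completion M)) + (v : Completion M) := by
          rw [Completion.coe_sub]; abel
        rw [this]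
        exact add_mem hm (coe_mem_hat hv)
      have h4 := hsub h3
      simpa using h4
    · rw [SetLike.mem_coe, AddMonoidHom.mem_ker, map_sub, hpv, sub_self]
  · intro hx
    have h1 : (hat p.ker : Set (Completion M)) ⊆ (p.completion hp) ⁻¹' {0} := by
      rw [coe_hat]
      apply closure_minimal
      · rintro _ ⟨m, hm, rfl⟩
        rw [Set.mem_preimage, p.completion_coe hp, Set.mem_singleton_iff]
        have : p m = 0 := hm
        rw [this]; rfl
      · exact isClosed_singleton.preimage (p.continuous_completion hp)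
    exact h1 hx

theorem completion_image_hat (hopen : IsOpenMap p)
    (hsurj : Function.Surjective p)
    (V : ℕ → AddSubgroup M) (hV : ∀ n, IsOpen (V n : Set M)) (hanti : Antitone V)
    (hb : ∀ W ∈ 𝓝 (0 : M), ∃ n, (V n : Set M) ⊆ W) (y : Completion Q) (hy : y ∈ hat ((V 0).map p)) :
    ∃ x ∈ hat (V 0), p.completion hp x = y := by
  obtain ⟨b, hb1, hb2⟩ := exists_series (fun n => (V n).map p) (fun n => hopen _ (hV n))
    (fun n m h => AddSubgroup.map_mono (hanti h)) (fun W hW => by
      have h1 : p ⁻¹' W ∈ 𝓝 (0 : M) := by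
        apply hp.continuousAt.preimage_mem_nhds
        rwa [map_zero]
      obtain ⟨n, hn⟩ := hb _ h1
      exact ⟨n, by rintro _ ⟨m, hm, rfl⟩; exact hn hm⟩) y hy
  choose a ha hpa using hb1
  obtain ⟨x, hx, hsum⟩ := exists_hasSum_mem V hV hanti hb a ha
  refine ⟨x, hx, ?_⟩
  have h1 := hsum.map (p.completion hp) (p.continuous_completion hp)
  have h2 : (p.completion hp : Completion M → Completion Q) ∘ (fun n => (a n : Completion M)) =
      fun n => ((b n : Q) : Completion Q) := by
    funext n
    rw [Function.comp_apply, p.completion_coe hp, hpa]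
  rw [h2] at h1
  exact h1.unique hb2

theorem completion_surjective (hopen : IsOpenMap p) (hsurj : Function.Surjective p)
    (hc : (𝓝 (0 : M)).IsCountablyGenerated)
    (hb : (𝓝 (0 : M)).HasBasis (fun V : AddSubgroup M => IsOpen (V : Set M)) (fun V => (V : Set M))) :
    Function.Surjective (p.completion hp) ∧ IsOpenMap (p.completion hp) := by
  obtain ⟨V, hV, hVb⟩ := hb.exists_antitone_subbasis
  have hanti : Antitone V := fun n m h => hVb.antitone h
  have hb' : ∀ W ∈ 𝓝 (0 : M), ∃ n, (V n : Set M) ⊆ W := fun W hW => by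
    obtain ⟨n, _, hn⟩ := hVb.1.mem_iff.1 hW
    exact ⟨n, hn⟩
  constructor
  · intro y
    obtain ⟨q, hq⟩ := exists_sub_mem_hat' ((V 0).map p) (hopen _ (hV 0)) y
    obtain ⟨x, _, hx⟩ := completion_image_hat p hp hopen hsurj V hV hanti hb' _ hq
    obtain ⟨m, rfl⟩ := hsurj q
    refine ⟨x + (m : Completion M), ?_⟩
    rw [map_add, hx, p.completion_coe hp]
    abel
  · rw [isOpenMap_iff_nhds_le]
    intro a U hU
    rw [mem_map] at hU
    have h1 : (fun z : Completion M => a + z) ⁻¹' ((p.completion hp) ⁻¹' U) ∈ 𝓝 (0 : Completion M) := by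
      apply (continuous_const.add continuous_id).continuousAt.preimage_mem_nhds
      simpa using hU
    obtain ⟨n, hn⟩ := exists_hat_subset_seq V hV hb' _ h1
    have h2 : {w : Completion Q | w - p.completion hp a ∈ hat ((V n).map p)} ∈ 𝓝 (p.completion hp a) := by
      have hcont : Continuous fun w : Completion Q => w - p.completion hp a := continuous_id.sub continuous_const
      apply hcont.continuousAt.preimage_mem_nhds
      rw [sub_self]
      exact (isOpen_hat _ (hopen _ (hV n))).mem_nhds (zero_mem _)
    filter_upwards [h2] with w hw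
    obtain ⟨x, hx, hxw⟩ := completion_image_hat p hp hopen hsurj (fun k => V (n + k)) (fun k => hV _)
      (fun k l h => hanti (by omega)) (fun W hW => by
        obtain ⟨k, hk⟩ := hb' W hW
        exact ⟨k, subset_trans (hanti (by omega : k ≤ n + k)) hk⟩) _ hw
    have h3 := hn hx
    rw [Set.mem_preimage, Set.mem_preimage, map_add, hxw] at h3
    simpa using h3

end Map

end K855.Compl
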